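import Groth.Agent.LechLib.Graded

/-!
# The estimate over an arbitrary field
-/

set_option autoImplicit false
set_option synthInstance.maxHeartbeats 100000
set_option linter.style.haveILetI false
universe u

open MvPolynomial
open scoped TensorProduct

noncomputable section

namespace LechLib

variable {k : Type u} [Field k] {m : ℕ}

/-- Colength is invariant under extension of the field. -/
theorem finrank_quot_map (L : Type u) [Field L] [Algebra k L] (A : Ideal (MvPolynomial (Fin m) k)) :
    Module.finrank L (MvPolynomial (Fin m) L ⧸ A.map (MvPolynomial.map (algebraMap k L))) =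
      Module.finrank k (MvPolynomial (Fin m) k ⧸ A) := by
  let e₁ := Algebra.TensorProduct.tensorQuotientEquiv (R := k) L (MvPolynomial (Fin m) k) L A
  let Φ := MvPolynomial.algebraTensorAlgEquiv k L (σ := Fin m)
  let e₂ := Ideal.quotientEquivAlg (A.map (Algebra.TensorProduct.includeRight (A := L) (R := k)))
    (A.map (MvPolynomial.map (algebraMap k L))) Φ (by
      rw [show A.map (Algebra.TensorProduct.includeRight (A := L) (R := k)) =
        A.map (Algebra.TensorProduct.includeRight (A := L) (R := k)).toRingHom from rfl, Ideal.map_map]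
      congr 1
      refine RingHom.ext fun x => ?_
      show _ = Φ (1 ⊗ₜ x)
      rw [MvPolynomial.algebraTensorAlgEquiv_tmul, one_smul])
  rw [← (e₁.trans e₂).toLinearEquiv.finrank_eq, Module.finrank_baseChange]

/-- The two-sided estimate for colengths of powers. -/
theorem graded_bound' (𝔞 I : Ideal (MvPolynomial (Fin m) k))
    (hH : ∀ p ∈ 𝔞, ∀ d, homogeneousComponent d p ∈ 𝔞) (hne : 𝔞 ≠ ⊤) (hI : 𝔞 ≤ I) {N : ℕ}
    (hIN : idealOfVars (Fin m) k ^ N ≤ I) :
    ∃ s e c C : ℕ, 0 < e ∧
      (∀ n, c < n → e * (n - c) ^ s ≤ s.factorial *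
        Module.finrank k (MvPolynomial (Fin m) k ⧸ (𝔞 ⊔ idealOfVars (Fin m) k ^ n))) ∧
      ∀ n, 0 < n → Module.finrank k (MvPolynomial (Fin m) k ⧸ (𝔞 ⊔ I ^ n)) * n ≤
        e * (n ^ s * Module.finrank k (MvPolynomial (Fin m) k ⧸ I)) * n + C * n ^ s := by
  let L := RatFunc k
  haveI : Infinite L := Infinite.of_injective _ (IsFractionRing.injective (Polynomial k) L)
  let f := MvPolynomial.map (σ := Fin m) (algebraMap k L)
  have hV : (idealOfVars (Fin m) k).map f = idealOfVars (Fin m) L := by
    rw [idealOfVars, idealOfVars, Ideal.map_span, ← Set.range_comp]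
    congr 2
    funext i
    simp [f]
  have hcomp : ∀ d p, homogeneousComponent d (f p) = f (homogeneousComponent d p) := fun d p => by
    ext e
    simp only [f, coeff_homogeneousComponent, coeff_map]
    split_ifs <;> simp
  have hH' : ∀ p ∈ 𝔞.map f, ∀ d, homogeneousComponent d p ∈ 𝔞.map f := by
    classical
    intro p hp
    refine Submodule.span_induction ?_ ?_ ?_ ?_ hp
    · rintro _ ⟨a, ha, rfl⟩ d
      rw [hcomp]
      exact Ideal.mem_map_of_mem f (hH a ha d)
    · intro d; simp
    · intro a b _ _ ha hb d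
      rw [map_add]
      exact add_mem (ha d) (hb d)
    · intro r a _ ha d
      rw [smul_eq_mul, ← sum_homogeneousComponent r, ← sum_homogeneousComponent a, Finset.sum_mul, map_sum]
      refine sum_mem fun i _ => ?_
      rw [Finset.mul_sum, map_sum]
      refine sum_mem fun j _ => ?_
      rw [homogeneousComponent_of_mem
        ((mem_homogeneousSubmodule _ _).2 ((homogeneousComponent_isHomogeneous i r).mul (homogeneousComponent_isHomogeneous j a)))]
      split_ifs
      · exact Ideal.mul_mem_left _ _ (ha j)
      · exact zero_mem _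
  have hne' : 𝔞.map f ≠ ⊤ := fun h => by
    have hsub : 𝔞 ≤ idealOfVars (Fin m) k := fun q hq => by
      have h0 := hH q hq 0
      rw [homogeneousComponent_zero] at h0
      have : coeff 0 q = 0 := by
        by_contra hc0
        exact hne (Ideal.eq_top_of_isUnit_mem _ h0 ((IsUnit.mk0 _ hc0).map C))
      simpa using (mem_pow_idealOfVars_iff' 1 q).2 fun x hx => by
        rw [Nat.lt_one_iff, Finsupp.degree_eq_zero_iff] at hx
        rw [hx, this]
    have h2 : (⊤ : Ideal (MvPolynomial (Fin m) L)) ≤ idealOfVars (Fin m) L := h ▸ hV ▸ Ideal.map_mono hsub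
    have h3 := h2 (Submodule.mem_top (x := (1 : MvPolynomial (Fin m) L)))
    have h4 := (mem_pow_idealOfVars_iff' 1 (1 : MvPolynomial (Fin m) L)).1 (by simpa using h3) 0 (by simp)
    simp at h4
  obtain ⟨s, e, c, C, he, hlow, hup⟩ := graded_bound (𝔞.map f) hH' hne' (I.map f) (Ideal.map_mono hI) (N := N)
    (by rw [← hV, ← Ideal.map_pow]; exact Ideal.map_mono hIN)
  refine ⟨s, e, c, C, he, fun n hn => ?_, fun n hn => ?_⟩
  · have := hlow n hn
    rwa [← hV, ← Ideal.map_pow, ← Ideal.map_sup, finrank_quot_map] at this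
  · have := hup n hn
    rwa [← Ideal.map_pow, ← Ideal.map_sup, finrank_quot_map, finrank_quot_map] at this

end LechLib
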