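import Groth.Agent.LechLib.Std

/-!
# Colengths of powers in standard graded algebras
-/

set_option autoImplicit false
set_option maxHeartbeats 800000
set_option synthInstance.maxHeartbeats 100000
set_option linter.style.haveILetI false
universe u

open MvPolynomial Finset

noncomputable section

namespace LechLib

variable {k : Type u} [Field k] {m : ℕ}


/-- Components of a substitution by linear forms. -/
theorem component_aeval {s : ℕ} (y : Fin s → (MvPolynomial (Fin m) k)) (hy : ∀ i, (y i).IsHomogeneous 1) (F : MvPolynomial (Fin s) k)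
    (d : ℕ) : homogeneousComponent d (aeval y F) = aeval y (homogeneousComponent d F) := by
  have hh : ∀ e, (aeval y (homogeneousComponent e F)).IsHomogeneous e := fun e => by
    simpa using (homogeneousComponent_isHomogeneous e F).aeval (fun i => y i) hy
  conv_lhs => rw [← sum_homogeneousComponent F]
  rw [map_sum, map_sum, Finset.sum_congr rfl fun e _ => homogeneousComponent_of_mem (hh e), Finset.sum_ite_eq]
  split_ifs with h
  · rfl
  · rw [homogeneousComponent_eq_zero _ _ (by simpa [Finset.mem_range] using h), map_zero]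

/-- The top coefficient of a form restricted to a line. -/
theorem natDegree_coeff_line {R : Type*} [CommRing R] [Algebra k R] {s d : ℕ} {F : MvPolynomial (Fin s) k}
    (hF : F.IsHomogeneous d) (a : Fin s → k) (z : Fin s → R) :
    (aeval (fun i => Polynomial.C (z i) + Polynomial.C (algebraMap k R (a i)) * Polynomial.X) F).natDegree ≤ d ∧
      (aeval (fun i => Polynomial.C (z i) + Polynomial.C (algebraMap k R (a i)) * Polynomial.X) F).coeff d =
        algebraMap k R (MvPolynomial.eval a F) := by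
  classical
  let L : Fin s → Polynomial R := fun i => Polynomial.C (z i) + Polynomial.C (algebraMap k R (a i)) * Polynomial.X
  have hL1 : ∀ i, (L i).natDegree ≤ 1 := fun i => by
    refine (Polynomial.natDegree_add_le _ _).trans (max_le (by simp) ?_)
    refine Polynomial.natDegree_mul_le.trans ?_
    simp only [Polynomial.natDegree_C, zero_add]
    exact Polynomial.natDegree_X_le
  have hLc : ∀ i, (L i).coeff 1 = algebraMap k R (a i) := fun i => by
    simp [L, Polynomial.coeff_C]
  have hmono : ∀ e : Fin s →₀ ℕ, (∏ i ∈ e.support, L i ^ e i).natDegree ≤ e.degree ∧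
      (∏ i ∈ e.support, L i ^ e i).coeff e.degree = algebraMap k R (∏ i ∈ e.support, a i ^ e i) := fun e => by
    rw [Finsupp.degree_apply]
    induction e.support using Finset.induction with
    | empty => simp
    | insert i t hi ih =>
      rw [Finset.prod_insert hi, Finset.sum_insert hi, Finset.prod_insert hi]
      have h1 : (L i ^ e i).natDegree ≤ e i :=
        Polynomial.natDegree_pow_le.trans (le_of_le_of_eq (Nat.mul_le_mul_left _ (hL1 i)) (Nat.mul_one _))
      refine ⟨Polynomial.natDegree_mul_le.trans (add_le_add h1 ih.1), ?_⟩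
      rw [Polynomial.coeff_mul_add_eq_of_natDegree_le h1 ih.1, ih.2, map_mul, map_pow]
      congr 1
      have h2 := Polynomial.coeff_pow_of_natDegree_le (m := e i) (hL1 i)
      rwa [Nat.mul_one, hLc] at h2
  have hF' : aeval L F = ∑ e ∈ F.support, algebraMap k (Polynomial R) (coeff e F) * ∏ i ∈ e.support, L i ^ e i := by
    conv_lhs => rw [F.as_sum, map_sum]
    refine Finset.sum_congr rfl fun e _ => ?_
    rw [aeval_monomial]
    rfl
  show (aeval L F).natDegree ≤ d ∧ (aeval L F).coeff d = _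
  rw [hF']
  constructor
  · refine Polynomial.natDegree_sum_le_of_forall_le _ _ fun e he => Polynomial.natDegree_mul_le.trans ?_
    rw [Polynomial.algebraMap_apply, Polynomial.natDegree_C, zero_add]
    exact (hmono e).1.trans (hF.degree_eq_sum_deg_support he).symm.le
  · rw [Polynomial.finsetSum_coeff, MvPolynomial.eval_eq, map_sum]
    refine Finset.sum_congr rfl fun e he => ?_
    have hd : e.degree = d := (hF.degree_eq_sum_deg_support he).symm
    rw [Polynomial.algebraMap_apply, Polynomial.coeff_C_mul, ← hd, (hmono e).2, map_mul]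

variable (𝔞 : Ideal (MvPolynomial (Fin m) k)) (hH : ∀ p ∈ 𝔞, ∀ d, homogeneousComponent d p ∈ 𝔞)

include hH in
/-- Noether normalization by linear forms. -/
theorem exists_noether [Infinite k] (hne : 𝔞 ≠ ⊤) : ∃ (s : ℕ) (y : Fin s → (MvPolynomial (Fin m) k)), (∀ i, (y i).IsHomogeneous 1) ∧
    ((Ideal.Quotient.mkₐ k 𝔞).comp (aeval y : MvPolynomial (Fin s) k →ₐ[k] (MvPolynomial (Fin m) k))).Finite ∧
      ∀ F : MvPolynomial (Fin s) k, aeval y F ∈ 𝔞 → F = 0 := by
  classical
  let p : ℕ → Prop := fun s => ∃ y : Fin s → (MvPolynomial (Fin m) k), (∀ i, (y i).IsHomogeneous 1) ∧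
    ((Ideal.Quotient.mkₐ k 𝔞).comp (aeval y : MvPolynomial (Fin s) k →ₐ[k] (MvPolynomial (Fin m) k))).Finite
  have hp : ∃ s, p s := ⟨m, X, isHomogeneous_X k, AlgHom.Finite.of_surjective _ (by
    rw [aeval_X_left]; exact Ideal.Quotient.mk_surjective)⟩
  obtain ⟨y, hy, hfin⟩ := Nat.find_spec hp
  refine ⟨_, y, hy, hfin, fun F hF => ?_⟩
  by_contra hF0
  obtain ⟨d, hd⟩ : ∃ d, homogeneousComponent d F ≠ 0 := by
    by_contra! h
    exact hF0 (by rw [← sum_homogeneousComponent F]; exact Finset.sum_eq_zero fun d _ => h d)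
  set F' := homogeneousComponent d F with hF'def
  have hF'h : F'.IsHomogeneous d := homogeneousComponent_isHomogeneous d F
  have hF' : aeval y F' ∈ 𝔞 := by rw [hF'def, ← component_aeval y hy]; exact hH _ hF d
  obtain ⟨s, hs⟩ : ∃ s, Nat.find hp = s + 1 := by
    rcases Nat.eq_zero_or_pos (Nat.find hp) with h | h
    · exfalso
      haveI : IsEmpty (Fin (Nat.find hp)) := h ▸ Fin.isEmpty'
      have hC : F' = C (F'.coeff 0) := eq_C_of_isEmpty F'
      rw [hC, aeval_C] at hF'
      have hu : IsUnit (algebraMap k (MvPolynomial (Fin m) k) (F'.coeff 0)) := (IsUnit.mk0 _ fun e => hd (by rw [hC, e, map_zero])).map _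
      exact hne (Ideal.eq_top_of_isUnit_mem _ hF' hu)
    · exact ⟨_, (Nat.succ_pred_eq_of_pos h).symm⟩
  clear_value F'
  clear hF'def hF hF0 F
  revert y F'
  rw [hs]
  intro y hy hfin F' hd hF'h hF'
  obtain ⟨a, ha⟩ : ∃ a : Fin (s + 1) → k, MvPolynomial.eval a (F' * X (Fin.last s)) ≠ 0 := by
    by_contra! h
    exact mul_ne_zero hd (X_ne_zero _) (MvPolynomial.funext fun a => by rw [h a, map_zero])
  rw [map_mul, eval_X, mul_ne_zero_iff] at ha
  let c : Fin s → k := fun i => a i.castSucc / a (Fin.last s)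
  let z : Fin s → (MvPolynomial (Fin m) k) := fun i => y i.castSucc - C (c i) * y (Fin.last s)
  have hz : ∀ i, (z i).IsHomogeneous 1 := fun i => (hy _).sub ((hy _).C_mul _)
  refine Nat.find_min hp (show s < Nat.find hp by omega) ⟨z, hz, ?_⟩
  let ιy : MvPolynomial (Fin (s + 1)) k →ₐ[k] (MvPolynomial (Fin m) k) ⧸ 𝔞 := (Ideal.Quotient.mkₐ k 𝔞).comp (aeval y)
  let ιz : MvPolynomial (Fin s) k →ₐ[k] (MvPolynomial (Fin m) k) ⧸ 𝔞 := (Ideal.Quotient.mkₐ k 𝔞).comp (aeval z)
  letI : Algebra (MvPolynomial (Fin s) k) ((MvPolynomial (Fin m) k) ⧸ 𝔞) := ιz.toRingHom.toAlgebra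
  haveI : IsScalarTower k (MvPolynomial (Fin s) k) ((MvPolynomial (Fin m) k) ⧸ 𝔞) :=
    IsScalarTower.of_algebraMap_eq fun r => (ιz.commutes r).symm
  let w : (MvPolynomial (Fin m) k) ⧸ 𝔞 := algebraMap k _ (a (Fin.last s))⁻¹ * ιy (X (Fin.last s))
  let z' : Fin (s + 1) → MvPolynomial (Fin s) k := Fin.snoc X 0
  have hY : ∀ i, ιy (X i) = ιz (z' i) + algebraMap k ((MvPolynomial (Fin m) k) ⧸ 𝔞) (a i) * w := fun i => by
    have hmul : ∀ r : k, algebraMap k ((MvPolynomial (Fin m) k) ⧸ 𝔞) r * w =
        algebraMap k ((MvPolynomial (Fin m) k) ⧸ 𝔞) (r / a (Fin.last s)) * ιy (X (Fin.last s)) := fun r => by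
      simp [w, map_mul, div_eq_mul_inv, mul_assoc, -map_inv₀]
    rw [hmul]
    induction i using Fin.lastCases with
    | last => simp [z', div_self ha.2]
    | cast i =>
      simp only [z', Fin.snoc_castSucc]
      show Ideal.Quotient.mkₐ k 𝔞 (aeval y (X i.castSucc)) = Ideal.Quotient.mkₐ k 𝔞 (aeval z (X i)) +
        algebraMap k ((MvPolynomial (Fin m) k) ⧸ 𝔞) (c i) * Ideal.Quotient.mkₐ k 𝔞 (aeval y (X (Fin.last s)))
      rw [aeval_X, aeval_X, aeval_X, ← (Ideal.Quotient.mkₐ k 𝔞).commutes, ← map_mul, ← map_add]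
      congr 1
      simp [z, MvPolynomial.algebraMap_eq]
  have hw : IsIntegral (MvPolynomial (Fin s) k) w := by
    let Q : Polynomial (MvPolynomial (Fin s) k) :=
      aeval (fun i => Polynomial.C (z' i) + Polynomial.C (algebraMap k _ (a i)) * Polynomial.X) F'
    obtain ⟨hQd, hQc⟩ := natDegree_coeff_line (R := MvPolynomial (Fin s) k) hF'h a z'
    let u := algebraMap k (MvPolynomial (Fin s) k) (MvPolynomial.eval a F')⁻¹
    refine ⟨Polynomial.C u * Q, Polynomial.monic_of_natDegree_le_of_coeff_eq_one d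
      (Polynomial.natDegree_C_mul_le _ _ |>.trans hQd) ?_, ?_⟩
    · rw [Polynomial.coeff_C_mul, hQc, ← map_mul, inv_mul_cancel₀ ha.1, map_one]
    · rw [← Polynomial.aeval_def, map_mul]
      refine mul_eq_zero_of_right _ ?_
      have e : ((Polynomial.aeval w).restrictScalars k).comp
          (aeval (fun i => Polynomial.C (z' i) + Polynomial.C (algebraMap k _ (a i)) * Polynomial.X)) = ιy := by
        refine MvPolynomial.algHom_ext fun i => ?_
        rw [hY]
        simp only [AlgHom.comp_apply, aeval_X, AlgHom.restrictScalars_apply, map_add, map_mul, Polynomial.aeval_C,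
          Polynomial.aeval_X, ← IsScalarTower.algebraMap_apply]
        rfl
      show ((Polynomial.aeval w).restrictScalars k).comp
        (aeval (fun i => Polynomial.C (z' i) + Polynomial.C (algebraMap k _ (a i)) * Polynomial.X)) F' = 0
      rw [e]
      exact Ideal.Quotient.eq_zero_iff_mem.2 hF'
  let A' := integralClosure (MvPolynomial (Fin s) k) ((MvPolynomial (Fin m) k) ⧸ 𝔞)
  have hgen : ∀ q, ιy q ∈ A' := fun q => by
    induction q using MvPolynomial.induction_on with
    | C r =>
      show IsIntegral _ _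
      rw [show ιy (C r) = algebraMap (MvPolynomial (Fin s) k) ((MvPolynomial (Fin m) k) ⧸ 𝔞) (algebraMap k _ r) by
        rw [← IsScalarTower.algebraMap_apply, ← MvPolynomial.algebraMap_eq, ιy.commutes]]
      exact isIntegral_algebraMap
    | add f g hf hg => rw [map_add]; exact add_mem hf hg
    | mul_X f i hf =>
      rw [map_mul, hY]
      refine mul_mem hf (add_mem isIntegral_algebraMap (mul_mem ?_ hw))
      show IsIntegral _ _
      rw [IsScalarTower.algebraMap_apply k (MvPolynomial (Fin s) k) ((MvPolynomial (Fin m) k) ⧸ 𝔞)]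
      exact isIntegral_algebraMap
  haveI : Algebra.IsIntegral A' ((MvPolynomial (Fin m) k) ⧸ 𝔞) := ⟨fun x =>
    (RingHom.IsIntegral.tower_top (ιy.toRingHom.codRestrict A' hgen) A'.val.toRingHom (fun x => by
      exact RingHom.Finite.to_isIntegral hfin x)) x⟩
  haveI : Algebra.IsIntegral (MvPolynomial (Fin s) k) A' := integralClosure.AlgebraIsIntegral
  haveI : Algebra.IsIntegral (MvPolynomial (Fin s) k) ((MvPolynomial (Fin m) k) ⧸ 𝔞) := Algebra.IsIntegral.trans A'
  haveI : Algebra.FiniteType (MvPolynomial (Fin s) k) ((MvPolynomial (Fin m) k) ⧸ 𝔞) := Algebra.FiniteType.of_restrictScalars_finiteType k _ _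
  exact Algebra.IsIntegral.finite

include hH in
/-- The two-sided estimate for colengths of powers. -/
theorem graded_bound [Infinite k] (hne : 𝔞 ≠ ⊤) (I : Ideal (MvPolynomial (Fin m) k)) (hI : 𝔞 ≤ I) {N : ℕ} (hIN : (idealOfVars (Fin m) k) ^ N ≤ I) :
    ∃ s e c C : ℕ, 0 < e ∧
      (∀ n, c < n → e * (n - c) ^ s ≤ s.factorial * Module.finrank k ((MvPolynomial (Fin m) k) ⧸ (𝔞 ⊔ (idealOfVars (Fin m) k) ^ n))) ∧
      ∀ n, 0 < n → Module.finrank k ((MvPolynomial (Fin m) k) ⧸ (𝔞 ⊔ I ^ n)) * n ≤
        e * (n ^ s * Module.finrank k ((MvPolynomial (Fin m) k) ⧸ I)) * n + C * n ^ s := by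
  classical
  replace hIN : (idealOfVars (Fin m) k) ^ (N + 1) ≤ I := (Ideal.pow_le_pow_right N.le_succ).trans hIN
  generalize hN1 : N + 1 = N' at hIN
  have hN' : 0 < N' := hN1 ▸ N.succ_pos
  clear hN1 N
  rename' N' => N
  obtain ⟨s, y, hy, hfin, hinj⟩ := exists_noether 𝔞 hH hne
  let π : (MvPolynomial (Fin s) k) →ₐ[k] (MvPolynomial (Fin m) k) := aeval y
  let ι : (MvPolynomial (Fin s) k) →ₐ[k] (MvPolynomial (Fin m) k) ⧸ 𝔞 := (Ideal.Quotient.mkₐ k 𝔞).comp π
  letI : Algebra (MvPolynomial (Fin s) k) ((MvPolynomial (Fin m) k) ⧸ 𝔞) := ι.toRingHom.toAlgebra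
  haveI : Module.Finite (MvPolynomial (Fin s) k) ((MvPolynomial (Fin m) k) ⧸ 𝔞) := hfin
  obtain ⟨Ng, g, hg⟩ := Module.Finite.exists_fin (R := (MvPolynomial (Fin s) k)) (M := (MvPolynomial (Fin m) k) ⧸ 𝔞)
  choose gt hgt using fun i => Ideal.Quotient.mk_surjective (g i)
  obtain ⟨B, hB, hBdep⟩ := exists_maximal_linearIndepOn (MvPolynomial (Fin s) k) g
  choose a ha0 hamem using hBdep
  let s₀ : (MvPolynomial (Fin s) k) := ∏ i, if h : i ∈ B then 1 else a i h
  have hs₀ : s₀ ≠ 0 := Finset.prod_ne_zero_iff.2 fun i _ => by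
    split_ifs with h
    · exact one_ne_zero
    · exact ha0 i h
  have hs₀mem : ∀ i, s₀ • g i ∈ Submodule.span (MvPolynomial (Fin s) k) (g '' B) := fun i => by
    by_cases h : i ∈ B
    · exact Submodule.smul_mem _ _ (Submodule.subset_span ⟨i, h, rfl⟩)
    · obtain ⟨r, hr⟩ : a i h ∣ s₀ := by
        have := Finset.dvd_prod_of_mem (fun i => if h : i ∈ B then (1 : (MvPolynomial (Fin s) k)) else a i h) (Finset.mem_univ i)
        rwa [dif_neg h] at this
      rw [hr, mul_comm, mul_smul]
      exact Submodule.smul_mem _ _ (hamem i h)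
  let Bf := B.toFinset
  have he : 0 < Bf.card := by
    rw [Finset.card_pos]
    by_contra hB0
    rw [Finset.not_nonempty_iff_eq_empty, Set.toFinset_eq_empty] at hB0
    have h1 : s₀ • (1 : (MvPolynomial (Fin m) k) ⧸ 𝔞) = 0 := by
      have hmem : (1 : (MvPolynomial (Fin m) k) ⧸ 𝔞) ∈ Submodule.span (MvPolynomial (Fin s) k) (Set.range g) := hg ▸ Submodule.mem_top
      obtain ⟨l, hl⟩ := (Submodule.mem_span_range_iff_exists_fun (MvPolynomial (Fin s) k)).1 hmem
      rw [← hl]
      simp only [Algebra.smul_def, Finset.mul_sum]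
      refine Finset.sum_eq_zero fun i _ => ?_
      have := hs₀mem i
      rw [hB0, Set.image_empty, Submodule.span_empty, Submodule.mem_bot, Algebra.smul_def] at this
      rw [mul_left_comm, this, mul_zero]
    rw [Algebra.smul_def, mul_one] at h1
    exact hs₀ (hinj s₀ (Ideal.Quotient.eq_zero_iff_mem.1 h1))
  let c := Finset.univ.sup fun i => (gt i).totalDegree
  have hπh : ∀ F : (MvPolynomial (Fin s) k), (π F).totalDegree ≤ F.totalDegree := fun F => by
    conv_lhs => rw [← sum_homogeneousComponent F]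
    rw [map_sum]
    refine totalDegree_finsetSum_le fun d hd => ?_
    have h := ((homogeneousComponent_isHomogeneous d F).aeval (fun i => y i) hy).totalDegree_le
    rw [Finset.mem_range] at hd
    exact h.trans (by omega)
  -- the submodule ideal
  let J : Ideal (MvPolynomial (Fin s) k) := I.comap π
  have hπM : (idealOfVars (Fin s) k).map π ≤ (idealOfVars (Fin m) k) := by
    rw [idealOfVars, Ideal.map_span, Ideal.span_le]
    rintro _ ⟨_, ⟨i, rfl⟩, rfl⟩
    show π (X i) ∈ (idealOfVars (Fin m) k)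
    rw [show π (X i) = y i from aeval_X y i]
    simpa using (mem_pow_idealOfVars_iff 1 (y i)).2 fun x hx => ((hy i).degree_eq_sum_deg_support hx).le
  have hJN : idealOfVars (Fin s) k ^ N ≤ J := Ideal.map_le_iff_le_comap.1 (by
    rw [Ideal.map_pow]; exact (Ideal.pow_right_mono hπM N).trans hIN)
  haveI : Module.Finite k ((MvPolynomial (Fin s) k) ⧸ J) := finite_quot_pow_idealOfVars N J hJN
  haveI : Module.Finite k ((MvPolynomial (Fin m) k) ⧸ I) := finite_quot_pow_idealOfVars N I hIN
  have hJI : Module.finrank k ((MvPolynomial (Fin s) k) ⧸ J) ≤ Module.finrank k ((MvPolynomial (Fin m) k) ⧸ I) :=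
    LinearMap.finrank_le_finrank_of_injective (f := (Ideal.quotientMapₐ (I := J) I π le_rfl).toLinearMap)
      Ideal.quotientMap_injective
  obtain ⟨D, hD⟩ := exists_finrank_quot_span_le hs₀
  refine ⟨s, Bf.card, c, Ng * (D * N ^ s), he, fun n hn => ?_, fun n hn => ?_⟩
  · -- lower bound
    obtain ⟨A, hA, hcard⟩ := exists_exponents s (n - c) (by omega)
    haveI : Module.Finite k ((MvPolynomial (Fin m) k) ⧸ (𝔞 ⊔ (idealOfVars (Fin m) k) ^ n)) := finite_quot_pow_idealOfVars n _ le_sup_right
    let φ : (MvPolynomial (Fin m) k) →ₗ[k] (MvPolynomial (Fin m) k) ⧸ (𝔞 ⊔ (idealOfVars (Fin m) k) ^ n) := (Ideal.Quotient.mkₐ k (𝔞 ⊔ (idealOfVars (Fin m) k) ^ n)).toLinearMap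
    have hli : LinearIndependent k (fun x : (Bf ×ˢ A : Finset _) => φ (π (monomial x.1.2 1) * gt x.1.1)) := by
      rw [Fintype.linearIndependent_iff]
      intro l hl x
      let F : Fin Ng → (MvPolynomial (Fin s) k) := fun b => ∑ x : (Bf ×ˢ A : Finset _), if x.1.1 = b then monomial x.1.2 (l x) else 0
      let p : (MvPolynomial (Fin m) k) := ∑ x : (Bf ×ˢ A : Finset _), l x • (π (monomial x.1.2 1) * gt x.1.1)
      have hp : p ∈ 𝔞 ⊔ (idealOfVars (Fin m) k) ^ n := by
        rw [← Ideal.Quotient.eq_zero_iff_mem]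
        show φ p = 0
        rw [map_sum, ← hl]
        exact Finset.sum_congr rfl fun x _ => LinearMap.map_smul _ _ _
      have hdeg : p.totalDegree < n := by
        refine lt_of_le_of_lt (totalDegree_finsetSum_le (d := n - 1) fun x _ => ?_) (by omega)
        refine (totalDegree_smul_le _ _).trans ((totalDegree_mul _ _).trans ?_)
        have h1 := hA _ (Finset.mem_product.1 x.2).2
        have h2 : (π (monomial x.1.2 (1 : k))).totalDegree ≤ x.1.2.degree :=
          (hπh _).trans (isHomogeneous_monomial (1 : k) rfl).totalDegree_le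
        have h3 : (gt x.1.1).totalDegree ≤ c := Finset.le_sup (f := fun i => (gt i).totalDegree) (Finset.mem_univ _)
        omega
      have hp𝔞 : p ∈ 𝔞 := by
        obtain ⟨u, hu, v, hv, huv⟩ := Submodule.mem_sup.1 hp
        rw [← sum_homogeneousComponent p]
        refine sum_mem fun d hd => ?_
        have hdn : d < n := by rw [Finset.mem_range] at hd; omega
        have hv0 : homogeneousComponent d v = 0 := by
          ext e
          rw [coeff_homogeneousComponent, coeff_zero, ite_eq_right_iff]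
          exact fun hed => (mem_pow_idealOfVars_iff' n v).1 hv e (hed ▸ hdn)
        rw [← huv, map_add, hv0, add_zero]
        exact hH u hu d
      have hsum : ∑ b ∈ Bf, F b • g b = 0 := by
        rw [← Ideal.Quotient.eq_zero_iff_mem] at hp𝔞
        rw [← hp𝔞]
        simp only [F, Algebra.smul_def (R := MvPolynomial (Fin s) k), map_sum, Finset.sum_mul]
        simp only [p, map_sum]
        rw [Finset.sum_comm]
        refine Finset.sum_congr rfl fun x _ => ?_
        simp only [apply_ite, map_zero, ite_mul, zero_mul]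
        rw [Finset.sum_ite_eq, if_pos (Finset.mem_product.1 x.2).1, ← hgt]
        show Ideal.Quotient.mk 𝔞 (π _) * Ideal.Quotient.mk 𝔞 _ = _
        rw [← map_mul, show monomial x.1.2 (l x) = l x • monomial x.1.2 (1 : k) by
          rw [smul_monomial, smul_eq_mul, mul_one], map_smul, smul_mul_assoc]
      have hzero := (linearIndepOn_iff'.1 hB) Bf F (by simp [Bf]) hsum x.1.1 (Finset.mem_product.1 x.2).1
      have := congrArg (coeff x.1.2) hzero
      simp only [F, coeff_sum, coeff_zero] at this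
      rw [Finset.sum_eq_single x] at this
      · simpa using this
      · intro x' _ hne
        split_ifs with h
        · rw [coeff_monomial, if_neg]
          exact fun h' => hne (Subtype.ext (Prod.ext h h'))
        · rw [coeff_zero]
      · simp
    have hle := hli.fintype_card_le_finrank
    rw [Fintype.card_coe, Finset.card_product] at hle
    calc Bf.card * (n - c) ^ s ≤ Bf.card * (s.factorial * A.card) := Nat.mul_le_mul_left _ hcard
      _ = s.factorial * (Bf.card * A.card) := by ring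
      _ ≤ _ := Nat.mul_le_mul_left _ hle
  · -- upper bound
    haveI : Module.Finite k ((MvPolynomial (Fin m) k) ⧸ (𝔞 ⊔ I ^ n)) :=
      finite_quot_pow_idealOfVars (N * n) _
        (((pow_mul (idealOfVars (Fin m) k) N n).le.trans (Ideal.pow_right_mono hIN n)).trans le_sup_right)
    obtain ⟨hfJ, hJle⟩ := finrank_quot_pow_le J hn
    haveI := hfJ
    let Q := (MvPolynomial (Fin m) k) ⧸ (𝔞 ⊔ I ^ n)
    let φ : (MvPolynomial (Fin m) k) →ₐ[k] Q := Ideal.Quotient.mkₐ k (𝔞 ⊔ I ^ n)
    have hJn : J ^ n ≤ (𝔞 ⊔ I ^ n).comap π :=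
      ((Ideal.le_comap_pow π n).trans (Ideal.comap_mono le_sup_right))
    let Li : Fin Ng → ((MvPolynomial (Fin s) k) →ₗ[k] Q) := fun i => (LinearMap.mulRight k (φ (gt i))) ∘ₗ (φ.comp π).toLinearMap
    have hLiJ : ∀ i, ∀ x ∈ J ^ n, Li i x = 0 := fun i x hx => by
      show φ (π x) * φ (gt i) = 0
      rw [show φ (π x) = 0 from Ideal.Quotient.eq_zero_iff_mem.2 (hJn hx), zero_mul]
    let W1 : (Bf → (MvPolynomial (Fin s) k) ⧸ J ^ n) →ₗ[k] Q := ∑ b : Bf,
      (((J ^ n).restrictScalars k).liftQ (Li b) (fun x hx => hLiJ b x hx) ∘ₗ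
        (Submodule.Quotient.restrictScalarsEquiv k (J ^ n)).symm.toLinearMap) ∘ₗ LinearMap.proj b
    let W := LinearMap.range W1
    have hWb : ∀ b ∈ Bf, ∀ x, Li b x ∈ W := fun b hb x => by
      refine ⟨fun b' => if b' = ⟨b, hb⟩ then Ideal.Quotient.mk _ x else 0, ?_⟩
      simp only [W1, LinearMap.sum_apply, LinearMap.comp_apply, LinearMap.proj_apply]
      rw [Finset.sum_eq_single (⟨b, hb⟩ : Bf) (fun b' _ hne => by rw [if_neg hne, map_zero, map_zero])
        (fun h => absurd (Finset.mem_univ _) h), if_pos rfl]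
      rfl
    -- elements congruent to the span of the chosen generators
    have hkey : ∀ (p : (MvPolynomial (Fin m) k)) (F : Fin Ng → (MvPolynomial (Fin s) k)) (T : Finset (Fin Ng)), Ideal.Quotient.mk 𝔞 p = ∑ i ∈ T, F i • g i →
        φ p = ∑ i ∈ T, Li i (F i) := fun p F T h => by
      have h' : p - ∑ i ∈ T, π (F i) * gt i ∈ 𝔞 := by
        rw [← Ideal.Quotient.eq, h, map_sum]
        refine Finset.sum_congr rfl fun i _ => ?_
        rw [map_mul, hgt, Algebra.smul_def]
        rfl
      have h'' : φ p = φ (∑ i ∈ T, π (F i) * gt i) := Ideal.Quotient.eq.2 (Ideal.mem_sup_left h')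
      rw [h'', map_sum]
      exact Finset.sum_congr rfl fun i _ => map_mul _ _ _
    let L' := idealOfVars (Fin s) k ^ (N * n) ⊔ Ideal.span {s₀}
    haveI : Module.Finite k ((MvPolynomial (Fin s) k) ⧸ L') := finite_quot_pow_idealOfVars _ _ le_sup_left
    have hL' : ∀ i, ∀ x ∈ L', Li i x ∈ W := fun i x hx => by
      obtain ⟨u, hu, v, hv, rfl⟩ := Submodule.mem_sup.1 hx
      rw [map_add]
      refine W.add_mem ?_ ?_
      · rw [hLiJ i u (((pow_mul _ N n).le.trans (Ideal.pow_right_mono hJN n)) hu)]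
        exact W.zero_mem
      obtain ⟨r, rfl⟩ := Ideal.mem_span_singleton'.1 hv
      have hspan := Submodule.smul_mem _ r (hs₀mem i)
      rw [← mul_smul, ← Set.coe_toFinset B, Submodule.mem_span_image_finset_iff_exists_fun] at hspan
      obtain ⟨l, hl⟩ := hspan
      show φ (π (r * s₀)) * φ (gt i) ∈ W
      rw [← map_mul, hkey (π (r * s₀) * gt i) (fun j => if hj : j ∈ Bf then l ⟨j, hj⟩ else 0) Bf ?_]
      · exact W.sum_mem fun j hj => hWb j hj _
      · rw [map_mul, hgt, ← Finset.sum_attach Bf]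
        have e : (r * s₀) • g i = Ideal.Quotient.mk 𝔞 (π (r * s₀)) * g i := Algebra.smul_def _ _
        rw [← e, ← hl, Finset.univ_eq_attach]
        exact Finset.sum_congr rfl fun j _ => by rw [dif_pos j.2]
    let W2 : (Fin Ng → (MvPolynomial (Fin s) k) ⧸ L') →ₗ[k] Q ⧸ W := ∑ i : Fin Ng,
      ((L'.restrictScalars k).liftQ (W.mkQ ∘ₗ Li i) (fun x hx => (Submodule.Quotient.mk_eq_zero W).2 (hL' i x hx)) ∘ₗ
        (Submodule.Quotient.restrictScalarsEquiv k L').symm.toLinearMap) ∘ₗ LinearMap.proj i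
    have hsurj : Function.Surjective W2 := fun q => by
      obtain ⟨q, rfl⟩ := W.mkQ_surjective q
      obtain ⟨p, rfl⟩ := Ideal.Quotient.mk_surjective q
      have hmem : Ideal.Quotient.mk 𝔞 p ∈ Submodule.span (MvPolynomial (Fin s) k) (Set.range g) := hg ▸ Submodule.mem_top
      obtain ⟨l, hl⟩ := (Submodule.mem_span_range_iff_exists_fun (MvPolynomial (Fin s) k)).1 hmem
      refine ⟨fun i => Ideal.Quotient.mk L' (l i), ?_⟩
      show W2 _ = W.mkQ (φ p)
      rw [hkey p l Finset.univ hl.symm, map_sum]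
      simp only [W2, LinearMap.sum_apply]
      rfl
    have h1 : Module.finrank k W ≤ Bf.card * Module.finrank k ((MvPolynomial (Fin s) k) ⧸ J ^ n) := by
      refine (LinearMap.finrank_range_le W1).trans (le_of_eq ?_)
      rw [Module.finrank_pi_fintype, Finset.sum_const, Finset.card_univ, Fintype.card_coe, smul_eq_mul]
    have h2 : Module.finrank k (Q ⧸ W) ≤ Ng * Module.finrank k ((MvPolynomial (Fin s) k) ⧸ L') := by
      refine (LinearMap.finrank_le_finrank_of_surjective hsurj).trans (le_of_eq ?_)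
      rw [Module.finrank_pi_fintype, Finset.sum_const, Finset.card_univ, Fintype.card_fin, smul_eq_mul]
    have h3 : Module.finrank k ((MvPolynomial (Fin s) k) ⧸ L') * n ≤ D * (N * n) ^ s :=
      (Nat.mul_le_mul_left _ (Nat.le_mul_of_pos_left n hN')).trans (hD _)
    calc Module.finrank k Q * n = Module.finrank k (Q ⧸ W) * n + Module.finrank k W * n := by
          rw [← add_mul, W.finrank_quotient_add_finrank]
      _ ≤ Ng * (D * (N * n) ^ s) + Bf.card * (n ^ s * Module.finrank k ((MvPolynomial (Fin m) k) ⧸ I)) * n :=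
        add_le_add ((Nat.mul_le_mul_right n h2).trans (by rw [mul_assoc]; exact Nat.mul_le_mul_left _ h3))
          (Nat.mul_le_mul_right n (h1.trans (Nat.mul_le_mul_left _ (hJle.trans (Nat.mul_le_mul_left _ hJI)))))
      _ = _ := by rw [mul_pow]; ring

end LechLib
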