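import Groth.Agent.LechLib.Std

/-!
# Initial forms of ideals of a Noetherian local ring
-/

set_option autoImplicit false
set_option maxHeartbeats 800000
set_option synthInstance.maxHeartbeats 100000
set_option linter.style.haveILetI false
universe u

open MvPolynomial IsLocalRing

noncomputable section

namespace LechLib

variable {O : Type u} [CommRing O] [IsLocalRing O] {m : ℕ} (x : Fin m → O)

/-- The ideal of initial forms. -/
def inForm (L : Ideal O) : Ideal (MvPolynomial (Fin m) (ResidueField O)) :=
  Ideal.span {q | ∃ (d : ℕ) (F : MvPolynomial (Fin m) O), F.IsHomogeneous d ∧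
    MvPolynomial.eval x F ∈ L ⊔ maximalIdeal O ^ (d + 1) ∧ MvPolynomial.map (residue O) F = q}

theorem exists_lift {d : ℕ} {q : MvPolynomial (Fin m) (ResidueField O)} (hq : q.IsHomogeneous d) :
    ∃ F : MvPolynomial (Fin m) O, F.IsHomogeneous d ∧ MvPolynomial.map (residue O) F = q := by
  obtain ⟨G, hG⟩ := MvPolynomial.map_surjective (σ := Fin m) (residue O) residue_surjective q
  refine ⟨homogeneousComponent d G, homogeneousComponent_isHomogeneous d G, ?_⟩
  ext e
  rw [coeff_map, coeff_homogeneousComponent]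
  split_ifs with he
  · rw [← hG, coeff_map]
  · rw [map_zero, hq.coeff_eq_zero he]

theorem homogeneousComponent_map_residue (d : ℕ) (G : MvPolynomial (Fin m) O) :
    homogeneousComponent d (MvPolynomial.map (residue O) G) =
      MvPolynomial.map (residue O) (homogeneousComponent d G) := by
  ext e
  simp only [coeff_homogeneousComponent, coeff_map]
  split_ifs <;> simp

variable (hx : Ideal.span (Set.range x) = maximalIdeal O)
include hx

theorem eval_mem_pow {d : ℕ} {F : MvPolynomial (Fin m) O} (hF : F.IsHomogeneous d) :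
    MvPolynomial.eval x F ∈ maximalIdeal O ^ d := by
  rw [← hx]
  exact (Ideal.mem_span_pow_iff_exists_isHomogeneous x _).2 ⟨F, hF, rfl⟩

theorem eval_mem_succ {d : ℕ} {F : MvPolynomial (Fin m) O} (hF : F.IsHomogeneous d)
    (h0 : MvPolynomial.map (residue O) F = 0) : MvPolynomial.eval x F ∈ maximalIdeal O ^ (d + 1) := by
  rw [MvPolynomial.eval_eq, pow_succ']
  refine sum_mem fun e he => Ideal.mul_mem_mul ?_ ?_
  · have := congrArg (coeff e) h0
    rwa [coeff_map, coeff_zero, residue_eq_zero_iff] at this
  · have h := eval_mem_pow x hx (isHomogeneous_monomial (1 : O) (hF.degree_eq_sum_deg_support he).symm)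
    rwa [eval_monomial, one_mul] at h

theorem component_mem {L : Ideal O} {p : MvPolynomial (Fin m) (ResidueField O)} (hp : p ∈ inForm x L) :
    ∀ d, ∃ F : MvPolynomial (Fin m) O, F.IsHomogeneous d ∧ MvPolynomial.eval x F ∈ L ⊔ maximalIdeal O ^ (d + 1) ∧
      MvPolynomial.map (residue O) F = homogeneousComponent d p := by
  classical
  refine Submodule.span_induction ?_ ?_ ?_ ?_ hp
  · rintro _ ⟨e, F, hF, hev, rfl⟩ d
    rw [homogeneousComponent_map_residue, homogeneousComponent_of_mem ((mem_homogeneousSubmodule _ _).2 hF)]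
    split_ifs with h
    · exact ⟨F, h ▸ hF, h ▸ hev, rfl⟩
    · exact ⟨0, isHomogeneous_zero _ _ _, by rw [map_zero]; exact zero_mem _, rfl⟩
  · exact fun d => ⟨0, isHomogeneous_zero _ _ _, by rw [map_zero]; exact zero_mem _, by simp⟩
  · intro a b _ _ ha hb d
    obtain ⟨Fa, h1, h2, h3⟩ := ha d
    obtain ⟨Fb, g1, g2, g3⟩ := hb d
    exact ⟨Fa + Fb, h1.add g1, by rw [map_add]; exact add_mem h2 g2, by rw [map_add, map_add, h3, g3]⟩
  · intro r a _ ha d
    obtain ⟨G, rfl⟩ := MvPolynomial.map_surjective (σ := Fin m) (residue O) residue_surjective r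
    choose F hF1 hF2 hF3 using ha
    let s := Finset.range (G.totalDegree + 1) ×ˢ Finset.range (a.totalDegree + 1)
    refine ⟨∑ ij ∈ s, if d = ij.1 + ij.2 then homogeneousComponent ij.1 G * F ij.2 else 0,
      IsHomogeneous.sum _ _ _ fun ij _ => ?_, ?_, ?_⟩
    · split_ifs with h
      · exact h ▸ (homogeneousComponent_isHomogeneous _ _).mul (hF1 _)
      · exact isHomogeneous_zero _ _ _
    · rw [map_sum]
      refine sum_mem fun ij _ => ?_
      split_ifs with h
      · rw [map_mul]
        have h1 := eval_mem_pow x hx (homogeneousComponent_isHomogeneous ij.1 G)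
        obtain ⟨l, hl, v, hv, hlv⟩ := Submodule.mem_sup.1 (hF2 ij.2)
        rw [← hlv, mul_add]
        refine add_mem (Ideal.mem_sup_left (Ideal.mul_mem_left _ _ hl)) (Ideal.mem_sup_right ?_)
        rw [h, add_assoc, pow_add]
        exact Ideal.mul_mem_mul h1 hv
      · rw [map_zero]; exact zero_mem _
    · rw [smul_eq_mul, map_sum]
      conv_rhs => rw [← sum_homogeneousComponent G, ← sum_homogeneousComponent a, map_sum, Finset.sum_mul_sum, map_sum]
      rw [Finset.sum_product]
      refine Finset.sum_congr rfl fun i _ => ?_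
      rw [map_sum]
      refine Finset.sum_congr rfl fun j _ => ?_
      rw [homogeneousComponent_of_mem ((mem_homogeneousSubmodule _ _).2
        (((homogeneousComponent_isHomogeneous i G).map _).mul (homogeneousComponent_isHomogeneous j a)))]
      split_ifs with h
      · rw [map_mul, hF3]
      · rw [map_zero]

theorem homogeneous_inForm (L : Ideal O) :
    ∀ p ∈ inForm x L, ∀ d, homogeneousComponent d p ∈ inForm x L := fun p hp d => by
  obtain ⟨F, h1, h2, h3⟩ := component_mem x hx hp d
  exact Ideal.subset_span ⟨d, F, h1, h2, h3⟩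

theorem inForm_ne_top : inForm x (⊥ : Ideal O) ≠ ⊤ := fun h => by
  obtain ⟨F, hF, hev, hmap⟩ := component_mem x hx (h ▸ Submodule.mem_top : (1 : MvPolynomial (Fin m) (ResidueField O)) ∈ inForm x ⊥) 0
  rw [bot_sup_eq, pow_one] at hev
  rw [homogeneousComponent_zero, coeff_zero_one] at hmap
  have hC : F = C (coeff 0 F) := by
    rw [← homogeneousComponent_eq_self hF, homogeneousComponent_zero]
    simp
  rw [hC, map_C] at hmap
  rw [hC, eval_C] at hev
  have := (residue_eq_zero_iff _).2 hev
  have h1 := C_injective (Fin m) _ hmap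
  rw [this] at h1
  exact one_ne_zero h1.symm

theorem inForm_mul_le (L L' : Ideal O) : inForm x L * inForm x L' ≤ inForm x (L * L') := by
  rw [inForm, inForm, Ideal.span_mul_span', Ideal.span_le]
  rintro _ ⟨_, ⟨d, F, hF, hev, rfl⟩, _, ⟨e, G, hG, hev', rfl⟩, rfl⟩
  refine Ideal.subset_span ⟨d + e, F * G, hF.mul hG, ?_, map_mul _ _ _⟩
  rw [map_mul]
  obtain ⟨a, ha, u, hu, hau⟩ := Submodule.mem_sup.1 hev
  obtain ⟨b, hb, v, hv, hbv⟩ := Submodule.mem_sup.1 hev'
  have hA := eval_mem_pow x hx hF
  have hB := eval_mem_pow x hx hG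
  have ha' : a ∈ maximalIdeal O ^ d := by
    rw [eq_sub_of_add_eq hau]
    exact sub_mem hA (Ideal.pow_le_pow_right (Nat.le_succ d) hu)
  have hb' : b ∈ maximalIdeal O ^ e := by
    rw [eq_sub_of_add_eq hbv]
    exact sub_mem hB (Ideal.pow_le_pow_right (Nat.le_succ e) hv)
  rw [show MvPolynomial.eval x F * MvPolynomial.eval x G = a * b + (a * v + u * MvPolynomial.eval x G) by
    rw [← hau, ← hbv]; ring]
  refine add_mem (Ideal.mem_sup_left (Ideal.mul_mem_mul ha hb)) (Ideal.mem_sup_right (add_mem ?_ ?_))
  · rw [add_assoc, pow_add]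
    exact Ideal.mul_mem_mul ha' hv
  · rw [add_right_comm, pow_add]
    exact Ideal.mul_mem_mul hu hB

theorem inForm_mono {L L' : Ideal O} (h : L ≤ L') : inForm x L ≤ inForm x L' :=
  Ideal.span_mono fun _ ⟨d, F, h1, h2, h3⟩ => ⟨d, F, h1, sup_le_sup_right h _ h2, h3⟩

theorem inForm_pow_le (L : Ideal O) : ∀ {n : ℕ}, 0 < n → inForm x L ^ n ≤ inForm x (L ^ n) := by
  intro n hn
  induction n with
  | zero => omega
  | succ n ih =>
    rcases Nat.eq_zero_or_pos n with rfl | hn'
    · simp
    · rw [pow_succ, pow_succ]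
      exact (Ideal.mul_mono_left (ih hn')).trans (inForm_mul_le x hx _ _)

theorem pow_le_inForm {L : Ideal O} {N : ℕ} (hN : maximalIdeal O ^ N ≤ L) :
    idealOfVars (Fin m) (ResidueField O) ^ N ≤ inForm x L := by
  rw [pow_idealOfVars_eq_span, Ideal.span_le]
  rintro _ ⟨e, he, rfl⟩
  refine Ideal.subset_span ⟨e.degree, monomial e 1, isHomogeneous_monomial _ rfl,
    Ideal.mem_sup_left (hN ?_), by rw [map_monomial, map_one]⟩
  exact Ideal.pow_le_pow_right (le_of_eq_of_le (Set.mem_setOf_eq ▸ he).symm le_rfl)
    (eval_mem_pow x hx (isHomogeneous_monomial (1 : O) rfl))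

/-- Colengths are computed by initial forms. -/
theorem length_eq_finrank_inForm (L : Ideal O) (d : ℕ) :
    Module.length O (O ⧸ (L ⊔ maximalIdeal O ^ d)) =
      (Module.finrank (ResidueField O) (MvPolynomial (Fin m) (ResidueField O) ⧸
        (inForm x L ⊔ idealOfVars (Fin m) (ResidueField O) ^ d)) : ℕ∞) := by
  haveI : Module.Finite (ResidueField O) (MvPolynomial (Fin m) (ResidueField O) ⧸
      (inForm x L ⊔ idealOfVars (Fin m) (ResidueField O) ^ d)) := finite_quot_pow_idealOfVars d _ le_sup_right
  rw [← Module.length_eq_finrank, ← Module.length_eq_of_surjective (S := O)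
    (show Function.Surjective (algebraMap O (ResidueField O)) from residue_surjective)]
  clear this
  induction d with
  | zero =>
    rw [pow_zero, Ideal.one_eq_top, sup_top_eq, pow_zero, Ideal.one_eq_top, sup_top_eq,
      Module.length_eq_zero, Module.length_eq_zero]
  | succ d ih =>
    let T := L ⊔ maximalIdeal O ^ (d + 1)
    let U := inForm x L ⊔ idealOfVars (Fin m) (ResidueField O) ^ (d + 1)
    have hTle : T ≤ L ⊔ maximalIdeal O ^ d := sup_le_sup_left (Ideal.pow_le_pow_right (Nat.le_succ d)) _
    have hUle : U ≤ inForm x L ⊔ idealOfVars (Fin m) (ResidueField O) ^ d :=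
      sup_le_sup_left (Ideal.pow_le_pow_right (Nat.le_succ d)) _
    let f : homogeneousSubmodule (Fin m) O d →ₗ[O] O ⧸ T :=
      (Ideal.Quotient.mkₐ O T).toLinearMap ∘ₗ (aeval x).toLinearMap ∘ₗ (homogeneousSubmodule (Fin m) O d).subtype
    let g : homogeneousSubmodule (Fin m) O d →ₗ[O] MvPolynomial (Fin m) (ResidueField O) ⧸ U :=
      (Ideal.Quotient.mkₐ O U).toLinearMap ∘ₗ
        (MvPolynomial.mapAlgHom (Algebra.ofId O (ResidueField O))).toLinearMap ∘ₗ
        (homogeneousSubmodule (Fin m) O d).subtype
    have hf : ∀ F, f F = Ideal.Quotient.mk T (MvPolynomial.eval x F.1) := fun F => rfl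
    have hg : ∀ F, g F = Ideal.Quotient.mk U (MvPolynomial.map (residue O) F.1) := fun F => rfl
    have hker : LinearMap.ker f = LinearMap.ker g := by
      ext ⟨F, hF⟩
      rw [mem_homogeneousSubmodule] at hF
      rw [LinearMap.mem_ker, LinearMap.mem_ker, hf, hg, Ideal.Quotient.eq_zero_iff_mem, Ideal.Quotient.eq_zero_iff_mem]
      constructor
      · exact fun h => Ideal.mem_sup_left (Ideal.subset_span ⟨d, F, hF, h, rfl⟩)
      · intro h
        obtain ⟨a, ha, b, hb, hab⟩ := Submodule.mem_sup.1 h
        obtain ⟨G, hG, hGev, hGmap⟩ := component_mem x hx ha d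
        have hbd : homogeneousComponent d b = 0 := by
          ext e
          rw [coeff_homogeneousComponent, coeff_zero, ite_eq_right_iff]
          exact fun he => (mem_pow_idealOfVars_iff' _ b).1 hb e (by omega)
        have hFG : MvPolynomial.map (residue O) (F - G) = 0 := by
          rw [map_sub, hGmap, ← homogeneousComponent_eq_self (hF.map (residue O)), ← hab, map_add, hbd, add_zero,
            sub_self]
        have := eval_mem_succ x hx (hF.sub hG) hFG
        rw [map_sub] at this
        simpa using add_mem hGev (Ideal.mem_sup_right (S := L) this)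
    let pT : (O ⧸ T) →ₗ[O] O ⧸ (L ⊔ maximalIdeal O ^ d) := (Ideal.Quotient.factorₐ O hTle).toLinearMap
    let pU : (MvPolynomial (Fin m) (ResidueField O) ⧸ U) →ₗ[O]
        MvPolynomial (Fin m) (ResidueField O) ⧸ (inForm x L ⊔ idealOfVars (Fin m) (ResidueField O) ^ d) :=
      ((Ideal.Quotient.factorₐ (ResidueField O) hUle).toLinearMap).restrictScalars O
    have hexT : Function.Exact (LinearMap.range f).subtype pT := by
      rw [LinearMap.exact_iff, Submodule.range_subtype]
      ext z
      obtain ⟨r, rfl⟩ := Ideal.Quotient.mk_surjective z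
      rw [LinearMap.mem_ker, show pT (Ideal.Quotient.mk T r) = Ideal.Quotient.mk _ r from rfl,
        Ideal.Quotient.eq_zero_iff_mem]
      constructor
      · intro h
        obtain ⟨a, ha, b, hb, rfl⟩ := Submodule.mem_sup.1 h
        rw [← hx] at hb
        obtain ⟨F, hF, rfl⟩ := (Ideal.mem_span_pow_iff_exists_isHomogeneous x b).1 hb
        exact ⟨⟨F, hF⟩, by rw [hf]; exact Ideal.Quotient.eq.2 (by simpa using Ideal.mem_sup_left (neg_mem ha))⟩
      · rintro ⟨⟨F, hF⟩, hFr⟩
        rw [hf, Ideal.Quotient.eq] at hFr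
        have hFm : MvPolynomial.eval x F ∈ L ⊔ maximalIdeal O ^ d := Ideal.mem_sup_right (eval_mem_pow x hx hF)
        simpa using sub_mem hFm (hTle hFr)
    have hexU : Function.Exact (LinearMap.range g).subtype pU := by
      rw [LinearMap.exact_iff, Submodule.range_subtype]
      ext z
      obtain ⟨r, rfl⟩ := Ideal.Quotient.mk_surjective z
      rw [LinearMap.mem_ker, show pU (Ideal.Quotient.mk U r) = Ideal.Quotient.mk _ r from rfl,
        Ideal.Quotient.eq_zero_iff_mem]
      constructor
      · intro h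
        obtain ⟨a, ha, b, hb, rfl⟩ := Submodule.mem_sup.1 h
        obtain ⟨F, hF, hFb⟩ := exists_lift (O := O) (homogeneousComponent_isHomogeneous d b)
        refine ⟨⟨F, hF⟩, ?_⟩
        rw [hg, hFb, Ideal.Quotient.eq, ← sub_sub, sub_right_comm]
        refine sub_mem (Ideal.mem_sup_right ((mem_pow_idealOfVars_iff' _ _).2 fun e he => ?_)) (Ideal.mem_sup_left ha)
        rw [coeff_sub, coeff_homogeneousComponent]
        split_ifs with hd
        · rw [sub_self]
        · rw [(mem_pow_idealOfVars_iff' _ b).1 hb e (by omega), sub_zero]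
      · rintro ⟨⟨F, hF⟩, hFr⟩
        rw [hg, Ideal.Quotient.eq] at hFr
        have hFm : MvPolynomial.map (residue O) F ∈ inForm x L ⊔ idealOfVars (Fin m) (ResidueField O) ^ d :=
          Ideal.mem_sup_right ((mem_pow_idealOfVars_iff' _ _).2 fun e he =>
            ((IsHomogeneous.map hF (residue O)).coeff_eq_zero (by omega)))
        simpa using sub_mem hFm (hUle hFr)
    rw [Module.length_eq_add_of_exact (LinearMap.range f).subtype pT (Submodule.subtype_injective _)
        (Ideal.Quotient.factor_surjective hTle) hexT, ih,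
      Module.length_eq_add_of_exact (LinearMap.range g).subtype pU (Submodule.subtype_injective _)
        (Ideal.Quotient.factor_surjective hUle) hexU]
    congr 1
    exact ((f.quotKerEquivRange.symm.trans (Submodule.quotEquivOfEq _ _ hker)).trans g.quotKerEquivRange).length_eq

end LechLib
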