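import Mathlib

/-!
# Standard monomials and colength of powers of ideals in polynomial rings
-/

set_option autoImplicit false
universe u

open MvPolynomial MonomialOrder Finset

noncomputable section

namespace LechLib

variable {k : Type u} [Field k] {s : ℕ}

/-- The lexicographic order used for leading exponents. -/
abbrev lx (s : ℕ) : MonomialOrder (Fin s) := MonomialOrder.lex

/-- Exponents which are not leading span the quotient. -/
theorem finrank_quot_le_of_standard (L : Ideal (MvPolynomial (Fin s) k)) (A : Finset (Fin s →₀ ℕ))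
    (h : ∀ a ∉ A, ∃ f ∈ L, f ≠ 0 ∧ (lx s).degree f = a) :
    Module.Finite k (MvPolynomial (Fin s) k ⧸ L) ∧ Module.finrank k (MvPolynomial (Fin s) k ⧸ L) ≤ A.card := by
  classical
  let φ : MvPolynomial (Fin s) k →ₗ[k] MvPolynomial (Fin s) k ⧸ L := (Ideal.Quotient.mkₐ k L).toLinearMap
  let v : (Fin s →₀ ℕ) → MvPolynomial (Fin s) k ⧸ L := fun a => φ (monomial a 1)
  let W := Submodule.span k ((A.image v : Finset _) : Set (MvPolynomial (Fin s) k ⧸ L))
  have key : ∀ x : (lx s).syn, v ((lx s).toSyn.symm x) ∈ W := by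
    intro x
    induction x using WellFoundedLT.induction with
    | ind x ih =>
      set a := (lx s).toSyn.symm x with ha
      by_cases haA : a ∈ A
      · exact Submodule.subset_span (Finset.mem_coe.2 (Finset.mem_image_of_mem v haA))
      obtain ⟨f, hfL, hf0, hfa⟩ := h a haA
      have hsum : φ f = ∑ b ∈ f.support, coeff b f • v b := by
        conv_lhs => rw [f.as_sum]
        rw [map_sum]
        refine Finset.sum_congr rfl fun b _ => ?_
        simp only [v]
        rw [← LinearMap.map_smul, smul_monomial, smul_eq_mul, mul_one]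
      have h0 : φ f = 0 := Ideal.Quotient.eq_zero_iff_mem.2 hfL
      have hmem : a ∈ f.support := hfa ▸ (lx s).degree_mem_support hf0
      rw [h0, ← Finset.add_sum_erase _ _ hmem] at hsum
      have hc : coeff a f ≠ 0 := MvPolynomial.mem_support_iff.1 hmem
      have hrest : ∑ b ∈ f.support.erase a, coeff b f • v b ∈ W := by
        refine Submodule.sum_mem _ fun b hb => Submodule.smul_mem _ _ ?_
        obtain ⟨hba, hb⟩ := Finset.mem_erase.1 hb
        have hle := (lx s).le_degree hb
        rw [hfa] at hle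
        have hlt : (lx s).toSyn b < x := by
          rw [← (lx s).toSyn.apply_symm_apply x, ← ha]
          exact lt_of_le_of_ne hle fun e => hba ((lx s).toSyn.injective e)
        simpa using ih _ hlt
      have : coeff a f • v a ∈ W := by
        rw [eq_neg_of_add_eq_zero_left hsum.symm]
        exact W.neg_mem hrest
      exact (Submodule.smul_mem_iff _ hc).1 this
  have htop : W = ⊤ := top_le_iff.1 fun q _ => by
    obtain ⟨p, rfl⟩ := Ideal.Quotient.mk_surjective q
    show φ p ∈ W
    rw [p.as_sum, map_sum]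
    refine Submodule.sum_mem _ fun b _ => ?_
    rw [show monomial b (coeff b p) = coeff b p • monomial b (1 : k) by rw [smul_monomial, smul_eq_mul, mul_one],
      LinearMap.map_smul]
    exact W.smul_mem _ (by simpa [v] using key ((lx s).toSyn b))
  haveI : Module.Finite k W := inferInstance
  refine ⟨⟨⟨A.image v, htop⟩⟩, ?_⟩
  rw [← finrank_top, ← htop]
  exact (finrank_span_finset_le_card _).trans Finset.card_image_le

/-- The standard exponents of an ideal of finite colength. -/
theorem exists_standard (J : Ideal (MvPolynomial (Fin s) k)) [Module.Finite k (MvPolynomial (Fin s) k ⧸ J)] :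
    ∃ E : Finset (Fin s →₀ ℕ), E.card ≤ Module.finrank k (MvPolynomial (Fin s) k ⧸ J) ∧
      ∀ a ∉ E, ∃ f ∈ J, f ≠ 0 ∧ (lx s).degree f = a := by
  classical
  let C : Set (Fin s →₀ ℕ) := {a | ¬ ∃ f ∈ J, f ≠ 0 ∧ (lx s).degree f = a}
  let φ : MvPolynomial (Fin s) k →ₗ[k] MvPolynomial (Fin s) k ⧸ J := (Ideal.Quotient.mkₐ k J).toLinearMap
  have hli : LinearIndependent k (fun a : C => φ (monomial (a : Fin s →₀ ℕ) 1)) := by
    rw [linearIndependent_iff']
    intro t g hg a ha
    let f := ∑ b ∈ t, monomial (b : Fin s →₀ ℕ) (g b)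
    have hfJ : f ∈ J := by
      rw [← Ideal.Quotient.eq_zero_iff_mem]
      show φ f = 0
      rw [map_sum, ← hg]
      refine Finset.sum_congr rfl fun b _ => ?_
      rw [← LinearMap.map_smul, smul_monomial, smul_eq_mul, mul_one]
    have hcoeff : coeff (a : Fin s →₀ ℕ) f = g a := by
      simp only [f, coeff_sum, coeff_monomial]
      rw [Finset.sum_eq_single a (fun b _ hb => if_neg fun e => hb (Subtype.ext e))
        (fun h => absurd ha h), if_pos rfl]
    by_contra hne
    have hf0 : f ≠ 0 := fun e => hne (by rw [← hcoeff, e, coeff_zero])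
    have hd := (lx s).degree_mem_support hf0
    rw [MvPolynomial.mem_support_iff] at hd
    simp only [f, coeff_sum, coeff_monomial] at hd
    obtain ⟨b, -, hb⟩ := Finset.exists_ne_zero_of_sum_ne_zero hd
    have e : (b : Fin s →₀ ℕ) = (lx s).degree f := of_not_not fun e => hb (if_neg e)
    exact b.2 ⟨f, hfJ, hf0, e.symm⟩
  haveI : Finite C := hli.finite
  haveI : Fintype C := Fintype.ofFinite C
  refine ⟨C.toFinset, ?_, fun a ha => not_not.1 fun hn => ha (Set.mem_toFinset.2 hn)⟩
  rw [Set.toFinset_card]
  exact hli.fintype_card_le_finrank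

/-- The colength of a power grows at most like the power of the colength. -/
theorem finrank_quot_pow_le (J : Ideal (MvPolynomial (Fin s) k)) [Module.Finite k (MvPolynomial (Fin s) k ⧸ J)]
    {n : ℕ} (hn : 0 < n) :
    Module.Finite k (MvPolynomial (Fin s) k ⧸ J ^ n) ∧
      Module.finrank k (MvPolynomial (Fin s) k ⧸ J ^ n) ≤ n ^ s * Module.finrank k (MvPolynomial (Fin s) k ⧸ J) := by
  classical
  obtain ⟨E, hE, hdeg⟩ := exists_standard J
  let g : (Fin s →₀ ℕ) × (Fin s → Fin n) → (Fin s →₀ ℕ) := fun x =>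
    n • x.1 + Finsupp.equivFunOnFinite.symm fun i => (x.2 i : ℕ)
  let A := (E ×ˢ (Finset.univ : Finset (Fin s → Fin n))).image g
  obtain ⟨hfin, hle⟩ := finrank_quot_le_of_standard (J ^ n) A fun a ha => by
    let b : Fin s →₀ ℕ := a.mapRange (· / n) (Nat.zero_div n)
    have hb : b ∉ E := fun hb => ha (Finset.mem_image.2 ⟨(b, fun i => ⟨a i % n, Nat.mod_lt _ hn⟩),
      Finset.mem_product.2 ⟨hb, Finset.mem_univ _⟩, Finsupp.ext fun i => by simp [g, b, Nat.div_add_mod]⟩)
    obtain ⟨f, hfJ, hf0, hfb⟩ := hdeg b hb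
    refine ⟨f ^ n * monomial (a - n • b) 1, Ideal.mul_mem_right _ _ (Ideal.pow_mem_pow hfJ n),
      mul_ne_zero (pow_ne_zero _ hf0) (by simp), ?_⟩
    rw [(lx s).degree_mul (pow_ne_zero _ hf0) (by simp), (lx s).degree_pow, hfb,
      (lx s).degree_monomial (1 : k), if_neg one_ne_zero]
    refine add_tsub_cancel_of_le (Finsupp.le_def.2 fun i => ?_)
    simp only [Finsupp.coe_smul, Pi.smul_apply, smul_eq_mul, b, Finsupp.mapRange_apply]
    exact Nat.mul_div_le (a i) n
  refine ⟨hfin, hle.trans (Finset.card_image_le.trans ?_)⟩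
  rw [Finset.card_product, Finset.card_univ, Fintype.card_fun, Fintype.card_fin, Fintype.card_fin, mul_comm]
  exact Nat.mul_le_mul_left _ hE

/-- Monomials of degree less than `q` span modulo the `q`-th power of the maximal ideal. -/
theorem finite_quot_pow_idealOfVars (q : ℕ) (L : Ideal (MvPolynomial (Fin s) k))
    (hL : idealOfVars (Fin s) k ^ q ≤ L) : Module.Finite k (MvPolynomial (Fin s) k ⧸ L) := by
  classical
  refine (finrank_quot_le_of_standard L
    ((Fintype.piFinset fun _ : Fin s => Finset.range q).map Finsupp.equivFunOnFinite.symm.toEmbedding)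
    fun a ha => ?_).1
  obtain ⟨i, hi⟩ : ∃ i, q ≤ a i := by
    by_contra! h
    exact ha (Finset.mem_map.2 ⟨⇑a, Fintype.mem_piFinset.2 fun i => Finset.mem_range.2 (h i),
      Finsupp.equivFunOnFinite.symm_apply_apply a⟩)
  refine ⟨monomial a 1, hL ?_, by simp, by rw [(lx s).degree_monomial (1 : k), if_neg one_ne_zero]⟩
  exact (monomial_mem_pow_idealOfVars_iff q a one_ne_zero).2 (hi.trans (Finsupp.le_degree i a))

/-- The colength of a power of the maximal ideal modulo a nonzero element grows one order slower. -/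
theorem exists_finrank_quot_span_le {s₀ : MvPolynomial (Fin s) k} (hs₀ : s₀ ≠ 0) :
    ∃ D : ℕ, ∀ q, Module.finrank k
      (MvPolynomial (Fin s) k ⧸ (idealOfVars (Fin s) k ^ q ⊔ Ideal.span {s₀})) * q ≤ D * q ^ s := by
  classical
  let b := (lx s).degree s₀
  refine ⟨∑ i, b i, fun q => ?_⟩
  let A : Fin s → Finset (Fin s →₀ ℕ) := fun i =>
    (Fintype.piFinset fun j => if j = i then Finset.range (b i) else Finset.range q).map
      Finsupp.equivFunOnFinite.symm.toEmbedding
  obtain ⟨-, hle⟩ := finrank_quot_le_of_standard (idealOfVars (Fin s) k ^ q ⊔ Ideal.span {s₀})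
    (Finset.univ.biUnion A) fun a ha => by
    by_cases hq : q ≤ a.degree
    · exact ⟨monomial a 1, Ideal.mem_sup_left ((monomial_mem_pow_idealOfVars_iff q a one_ne_zero).2 hq), by simp,
        by rw [(lx s).degree_monomial (1 : k), if_neg one_ne_zero]⟩
    have hba : b ≤ a := Finsupp.le_def.2 fun i => by
      by_contra! hi
      refine ha (Finset.mem_biUnion.2 ⟨i, Finset.mem_univ _, Finset.mem_map.2 ⟨⇑a, Fintype.mem_piFinset.2 fun j => ?_,
        Finsupp.equivFunOnFinite.symm_apply_apply a⟩⟩)
      split_ifs with hj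
      · exact Finset.mem_range.2 (hj ▸ hi)
      · exact Finset.mem_range.2 ((Finsupp.le_degree j a).trans_lt (not_le.1 hq))
    exact ⟨s₀ * monomial (a - b) 1, Ideal.mem_sup_right (Ideal.mul_mem_right _ _ (Ideal.mem_span_singleton_self _)),
      mul_ne_zero hs₀ (by simp), by
        rw [(lx s).degree_mul hs₀ (by simp), (lx s).degree_monomial (1 : k), if_neg one_ne_zero,
          add_tsub_cancel_of_le hba]⟩
  refine (Nat.mul_le_mul_right q (hle.trans Finset.card_biUnion_le)).trans ?_
  rw [Finset.sum_mul, Finset.sum_mul]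
  refine Finset.sum_le_sum fun i _ => le_of_eq ?_
  have hsi : q ^ s = q ^ (s - 1) * q := by rw [← pow_succ, Nat.sub_add_cancel i.pos]
  rw [hsi, ← mul_assoc]
  congr 1
  rw [Finset.card_map, Fintype.card_piFinset, ← Finset.mul_prod_erase _ _ (Finset.mem_univ i), if_pos rfl,
    Finset.card_range, Finset.prod_congr rfl (g := fun _ => q) fun j hj => by
      rw [if_neg (Finset.ne_of_mem_erase hj), Finset.card_range],
    Finset.prod_const, Finset.card_erase_of_mem (Finset.mem_univ i), Finset.card_univ, Fintype.card_fin]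

/-- Many exponents have degree less than `q`. -/
theorem exists_exponents (s q : ℕ) (hq : 0 < q) :
    ∃ A : Finset (Fin s →₀ ℕ), (∀ a ∈ A, a.degree < q) ∧ q ^ s ≤ s.factorial * A.card := by
  classical
  let B := (Finset.univ : Finset (Fin (s + 1))).finsuppAntidiag (q - 1)
  have hBsum : ∀ f ∈ B, f 0 + ∑ i : Fin s, f i.succ = q - 1 := fun f hf => by
    rw [← Fin.sum_univ_succ (fun i => f i)]
    exact (Finset.mem_finsuppAntidiag.1 hf).1
  let t : (Fin (s + 1) →₀ ℕ) → (Fin s →₀ ℕ) := fun f => Finsupp.equivFunOnFinite.symm fun i => f i.succ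
  refine ⟨B.image t, fun a ha => ?_, ?_⟩
  · obtain ⟨f, hf, rfl⟩ := Finset.mem_image.1 ha
    rw [Finsupp.degree_eq_sum]
    have := hBsum f hf
    simp only [t, Finsupp.coe_equivFunOnFinite_symm]
    omega
  have hinj : Set.InjOn t B := fun f hf g hg e => by
    have e' : ∀ i : Fin s, f i.succ = g i.succ := fun i => by
      simpa [t] using congrArg (fun w => (w : Fin s →₀ ℕ) i) e
    refine Finsupp.ext fun i => ?_
    cases i using Fin.cases with
    | zero =>
      have h1 := hBsum f hf
      have h2 := hBsum g hg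
      rw [Finset.sum_congr rfl fun i _ => e' i] at h1
      omega
    | succ i => exact e' i
  rw [Finset.card_image_of_injOn hinj]
  simp only [B]
  rw [Finset.card_finsuppAntidiag_nat_eq_choose, Finset.card_univ, Fintype.card_fin,
    show s + 1 + (q - 1) - 1 = s + (q - 1) by omega, ← Nat.choose_symm (Nat.le_add_left _ _),
    Nat.add_sub_cancel, ← Nat.descFactorial_eq_factorial_mul_choose]
  exact le_of_eq_of_le (by congr 1; omega) (Nat.pow_sub_le_descFactorial (s + (q - 1)) s)

end LechLib
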